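import Groth.Agent.Lib.ProjPic26.Over
import Groth.Agent.Lib.ProjPt.Basic
import Groth.Agent.Lib.ProjSp.Section

/-!
# Affine schemes of finite type over an open of the base immerse in relative projective space
-/

set_option autoImplicit false
set_option linter.all false
set_option backward.isDefEq.respectTransparency false

universe u

open CategoryTheory CategoryTheory.Limits AlgebraicGeometry TopologicalSpace Opposite HomogeneousLocalization
open GrothLib.ProjPt

noncomputable section

namespace GrothLib.AffProjChart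

variable {k : Type u} [CommRing k]

/-- An affine scheme of finite type over `k` immerses into projective space over `k` with image closed
in a standard chart. -/
theorem exists_immersion_chart {U : Scheme.{u}} [IsAffine U] (f : U ⟶ Spec (CommRingCat.of k))
    [LocallyOfFiniteType f] :
    ∃ (N : ℕ) (g : U ⟶ CohB1.ProjSpace N k), IsImmersion g ∧ g ≫ CohB1.ProjSpace.toSpec N k = f := by
  let φ : CommRingCat.of k ⟶ Γ(U, ⊤) := (Scheme.ΓSpecIso (CommRingCat.of k)).inv ≫ f.appTop
  have hφft : φ.hom.FiniteType := by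
    have h := (HasRingHomProperty.iff_of_isAffine (P := @LocallyOfFiniteType)).1 ‹LocallyOfFiniteType f›
    exact h.comp (RingHom.FiniteType.of_surjective _
      (ConcreteCategory.bijective_of_isIso (Scheme.ΓSpecIso (CommRingCat.of k)).inv).2)
  letI := φ.hom.toAlgebra
  haveI : Algebra.FiniteType k Γ(U, ⊤) := hφft
  obtain ⟨N, F, hF⟩ := (Algebra.FiniteType.iff_quotient_mvPolynomial'' (R := k) (S := Γ(U, ⊤))).1 inferInstance
  let ψ : MvPolynomial (Fin (N + 1)) k →+* Γ(U, ⊤) :=
    MvPolynomial.eval₂Hom φ.hom (Fin.cons 1 fun i => F (MvPolynomial.X i))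
  have hψ0 : IsUnit (ψ (ProjSp.x0 N k)) := by simp [ψ]
  let e := evalAway (CohB1.polyGrading N k) ψ _ hψ0
  have hb : e.comp (ProjSp.baseMap N k) = φ.hom := by
    refine RingHom.ext fun r => ?_
    show IsLocalization.Away.lift _ hψ0 (ProjSp.baseMap N k r).val = _
    rw [ProjSp.baseMap_val, IsLocalization.Away.lift_eq]
    simp [ψ]
  have hgen : ∀ i : Fin N, F (MvPolynomial.X i) ∈ e.range := by
    intro i
    have hmem : (MvPolynomial.X i.succ : MvPolynomial (Fin (N + 1)) k) ∈ CohB1.polyGrading N k (1 • 1) := by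
      rw [one_smul]
      exact MvPolynomial.isHomogeneous_X k i.succ
    refine ⟨Away.mk (CohB1.polyGrading N k) (ProjSp.x0_mem N k) 1 _ hmem, ?_⟩
    have h := evalAway_mk_spec (CohB1.polyGrading N k) ψ (ProjSp.x0_mem N k) hψ0 1 _ hmem
    simpa [e, ψ] using h
  have he : Function.Surjective e := by
    intro b
    obtain ⟨p, rfl⟩ := hF b
    show F p ∈ e.range
    induction p using MvPolynomial.induction_on with
    | C r => exact ⟨ProjSp.baseMap N k r, (RingHom.congr_fun hb r).trans (F.commutes r).symm⟩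
    | add p q hp hq => rw [map_add]; exact add_mem hp hq
    | mul_X p i hp => rw [map_mul]; exact mul_mem hp (hgen i)
  let c : U ⟶ Spec (CommRingCat.of (Away (CohB1.polyGrading N k) (ProjSp.x0 N k))) :=
    U.toSpecΓ ≫ Spec.map (CommRingCat.ofHom e)
  let ι0 : Spec (CommRingCat.of (Away (CohB1.polyGrading N k) (ProjSp.x0 N k))) ⟶ CohB1.ProjSpace N k :=
    Proj.awayι (CohB1.polyGrading N k) (ProjSp.x0 N k) (ProjSp.x0_mem N k) Nat.one_pos
  haveI : IsClosedImmersion (Spec.map (CommRingCat.ofHom e)) := IsClosedImmersion.spec_of_surjective _ he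
  haveI : IsClosedImmersion c := inferInstance
  haveI : IsOpenImmersion ι0 := inferInstanceAs (IsOpenImmersion (Proj.awayι (CohB1.polyGrading N k) _ _ _))
  refine ⟨N, c ≫ ι0, inferInstance, ?_⟩
  have h1 : c ≫ ι0 ≫ CohB1.ProjSpace.toSpec N k = U.toSpecΓ ≫ Spec.map φ := by
    rw [show ι0 ≫ CohB1.ProjSpace.toSpec N k = _ from ProjSp.awayι_toSpec N k]
    show (U.toSpecΓ ≫ _) ≫ _ = _
    rw [Category.assoc, ← Spec.map_comp, ← CommRingCat.ofHom_comp, hb, CommRingCat.ofHom_hom]
  rw [Category.assoc]
  refine h1.trans ?_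
  apply ext_to_Spec
  simp [φ]

/-- An affine scheme of finite type over an affine open of the base is quasi-projective over the base. -/
theorem exists_factor {U Y : Scheme.{u}} [IsAffine U] {R : Type u} [CommRing R] (y : Spec (CommRingCat.of R) ⟶ Y)
    [IsImmersion y] [QuasiCompact y] [IsLocallyNoetherian Y] (f : U ⟶ Spec (CommRingCat.of R))
    [LocallyOfFiniteType f] :
    ∃ (W P : Scheme.{u}) (g : U ⟶ W) (h : W ⟶ P) (p : P ⟶ Y),
      IsOpenImmersion g ∧ IsClosedImmersion h ∧ Smooth p ∧ IsProper p ∧ g ≫ h ≫ p = f ≫ y := by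
  obtain ⟨N, g, hg, hgf⟩ := exists_immersion_chart f
  obtain ⟨ω, -, hω⟩ := ProjPic26.exists_isPullback_point (n := N) Y y
  haveI : IsImmersion ω := MorphismProperty.of_isPullback hω.flip inferInstance
  let j := g ≫ ω
  haveI : IsImmersion j := inferInstance
  haveI : IsLocallyNoetherian (CohB1.ProjSpaceOver N Y) :=
    LocallyOfFiniteType.isLocallyNoetherian (CohB1.ProjSpaceOver.toBase N Y)
  haveI : QuasiCompact j := inferInstance
  refine ⟨j.image, _, j.toImage, j.imageι, CohB1.ProjSpaceOver.toBase N Y, inferInstance, inferInstance,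
    inferInstance, inferInstance, ?_⟩
  rw [Scheme.Hom.toImage_imageι_assoc, Category.assoc, hω.w, ← Category.assoc, hgf]

end GrothLib.AffProjChart
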